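import Groth.Agent.RelProjFlat16.Sections
import Groth.Agent.QCoh.FlatOver
import Groth.Agent.RelTildeX.Twist
import Mathlib.AlgebraicGeometry.Morphisms.Flat

/-!
# Flatness of a relative `Proj` with eventually flat graded pieces
-/

set_option autoImplicit false
set_option backward.isDefEq.respectTransparency false
set_option backward.isDefEq.respectTransparency.types false
set_option linter.style.haveILetI false

universe u

open CategoryTheory AlgebraicGeometry TopologicalSpace DirectSum Opposite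
open HomogeneousLocalization

noncomputable section

namespace Groth.Agent.RelProjFlat16

open Groth.Agent GrModX

/-- Reading off the ring map of an affine chart. -/
theorem appLE_eq_of_toSpecΓ {X S : Scheme.{u}} (g : X ⟶ S) {D : X.Opens} (hD : IsAffineOpen D) {U : S.Opens}
    (hU : IsAffineOpen U) (θ : Γ(S, U) ⟶ Γ(X, D)) (h : D.ι ≫ g = D.toSpecΓ ≫ Spec.map θ ≫ hU.fromSpec)
    (e : D ≤ g ⁻¹ᵁ U) : g.appLE U D e = θ := by
  refine Spec.map_injective ?_
  rw [← cancel_mono hU.fromSpec, IsAffineOpen.SpecMap_appLE_fromSpec g hU hD, ← cancel_epi hD.isoSpec.hom,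
    IsAffineOpen.isoSpec_hom_fromSpec_assoc, h]
  rfl

section toProj

variable {A : Type u} [CommRing A] (𝒜 : ℕ → AddSubgroup A) [GradedRing 𝒜] {f : A} {d : ℕ}

/-- Degree-zero elements as functions on `D(f)`. -/
def zeroToSection (f : A) : CommRingCat.of (𝒜 0) ⟶ Γ(Proj 𝒜, Proj.basicOpen 𝒜 f) :=
  CommRingCat.ofHom (fromZeroRingHom 𝒜 (Submonoid.powers f)) ≫ Proj.awayToSection 𝒜 f

theorem ι_toSpecZero (hf : f ∈ 𝒜 d) (hd : 0 < d) :
    (Proj.basicOpen 𝒜 f).ι ≫ Proj.toSpecZero 𝒜 =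
      (Proj.basicOpen 𝒜 f).toSpecΓ ≫ Spec.map (zeroToSection 𝒜 f) := by
  have h : (Proj.basicOpen 𝒜 f).ι = (Proj.basicOpenIsoSpec 𝒜 f hf hd).hom ≫ Proj.awayι 𝒜 f hf hd := by
    rw [← Proj.basicOpenIsoSpec_inv_ι 𝒜 f hf hd, Iso.hom_inv_id_assoc]
  rw [h, Category.assoc, Proj.awayι_toSpecZero, Proj.basicOpenIsoSpec_hom, Proj.basicOpenToSpec, Category.assoc,
    zeroToSection, Spec.map_comp]

theorem val_zeroToSection (f : A) (c : 𝒜 0) (y : Proj.basicOpen 𝒜 f) :
    ((zeroToSection 𝒜 f c).1 y).val = algebraMap A (GrTwist.Loc 𝒜 y.1) (c : A) := by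
  show ((Proj.awayToSection 𝒜 f (fromZeroRingHom 𝒜 (Submonoid.powers f) c)).1 y).val = _
  refine (ProjectiveSpectrum.Proj.awayToSection_apply (𝒜 := 𝒜) f _ y).trans ?_
  exact IsLocalization.map_eq _ _

/-- The function `c` acts on sections of `O(n)` as the element `c`. -/
theorem val_zeroToSection_smul (f : A) (c : 𝒜 0) (n : ℤ) (s : Γ(GrMod.tilde 𝒜 𝒜 n, Proj.basicOpen 𝒜 f))
    (y : Proj.basicOpen 𝒜 f) :
    GrMod.val (zeroToSection 𝒜 f c • s) y = (c : A) • GrMod.val s y := by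
  refine (show GrMod.val (zeroToSection 𝒜 f c • s) y = ((zeroToSection 𝒜 f c).1 y).val • GrMod.val s y from rfl).trans ?_
  rw [val_zeroToSection]
  exact algebraMap_smul _ _ _

variable {R : Type u} [CommRing R] (φ : R →+* 𝒜 0)

/-- Functions on `D(f)` are flat if the graded pieces of high degree are. -/
theorem flat_functions (d₀ : ℕ)
    (hflat : ∀ e, d₀ ≤ e → letI := ((AddSubgroup.subtype (𝒜 0)).comp φ.toAddMonoidHom)
      letI := ((algebraMap (𝒜 0) A).comp φ).toAlgebra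
      Module.Flat R (Submodule.span R (𝒜 e : Set A)))
    (hd : 0 < d) (hf : f ∈ 𝒜 d) :
    (RingHom.comp (zeroToSection 𝒜 f).hom φ).Flat := by
  letI : Algebra R A := ((algebraMap (𝒜 0) A).comp φ).toAlgebra
  let D := Proj.basicOpen 𝒜 f
  let θ : R →+* Γ(Proj 𝒜, D) := RingHom.comp (zeroToSection 𝒜 f).hom φ
  letI : Algebra R Γ(Proj 𝒜, D) := θ.toAlgebra
  letI : Module R Γ(GrTwist.twist 𝒜 0, D) := Module.compHom _ θ
  letI : Module R Γ(GrMod.tilde 𝒜 𝒜 0, D) := Module.compHom _ θ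
  have hR : ∀ r : R, algebraMap R A r ∈ 𝒜 0 := fun r => (φ r).2
  have hN : Module.Flat R Γ(GrTwist.twist 𝒜 0, D) := flat_sections 𝒜 hR d₀ hflat hd hf 0 D rfl
    fun r s y => val_zeroToSection_smul 𝒜 f (φ r) 0 s y
  let one : Γ(GrMod.tilde 𝒜 𝒜 0, D) := fracSect 𝒜 𝒜 0 D (SetLike.one_mem_graded 𝒜)
    (fun y h => y.1.isPrime.ne_top ((Ideal.eq_top_iff_one _).mpr h))
    (m := (1 : A)) ((deg_of_mem (SetLike.one_mem_graded 𝒜)).congr (by simp))
  let L : Γ(Proj 𝒜, D) →ₗ[R] Γ(GrMod.tilde 𝒜 𝒜 0, D) :=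
    { toFun := fun c => c • one
      map_add' := fun a b => add_smul a b one
      map_smul' := fun r a => mul_smul (θ r) a one }
  have hval : ∀ (c : Γ(Proj 𝒜, D)) (y : D), GrMod.val (c • one) y =
      (c.1 y).val • LocalizedModule.mk (1 : A) 1 := fun _ _ => rfl
  have hb : Function.Bijective L := by
    refine ⟨fun a b h => Subtype.ext (funext fun y => HomogeneousLocalization.val_injective _ ?_), fun s => ?_⟩
    · have h1 := congrArg (fun t => GrMod.val t y) (show a • one = b • one from h)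
      simp only [hval] at h1
      have e1 : ∀ q : GrTwist.Loc 𝒜 y.1, q • (LocalizedModule.mk (1 : A) 1 : GrMod.LocMod 𝒜 (M := A) y.1) = q :=
        fun q => by
          induction q using Localization.induction_on with
          | H z =>
            refine (LocalizedModule.mk_smul_mk z.1 (1 : A) z.2 1).trans ?_
            rw [smul_eq_mul, mul_one, mul_one]
            rfl
      exact ((e1 _).symm.trans h1).trans (e1 _)
    · obtain ⟨k, m, hm, hs⟩ := exists_frac 𝒜 𝒜 hd hf 0 s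
      obtain ⟨i, hi, hmi⟩ := hm.exists_mem (by positivity)
      have hi' : i = k * d := by
        simp only [add_zero] at hi
        exact_mod_cast hi
      refine ⟨Proj.awayToSection 𝒜 f (Away.mk 𝒜 hf k m (by rw [smul_eq_mul]; exact hi' ▸ hmi)), GrModX.ext_val 𝒜 𝒜 fun y => ?_⟩
      refine (hval _ y).trans ?_
      refine (congrArg (· • (LocalizedModule.mk (1 : A) 1 : GrMod.LocMod 𝒜 (M := A) y.1))
        (ProjectiveSpectrum.Proj.awayToSection_apply (𝒜 := 𝒜) f _ y)).trans ?_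
      rw [Away.val_mk, hs y, Localization.mk_eq_mk', IsLocalization.map_mk', ← Localization.mk_eq_mk']
      exact (LocalizedModule.mk_smul_mk _ _ _ _).trans (by simp)
  haveI : Module.Flat R Γ(GrMod.tilde 𝒜 𝒜 0, D) := hN
  exact Module.Flat.of_linearEquiv (LinearEquiv.ofBijective L hb)

end toProj

variable {S P : Scheme.{u}} {𝒜 : RelProj.QCGrAlg S} {p : P ⟶ S}
  {chart : ∀ (U : S.Opens) (hU : IsAffineOpen U), (((p ⁻¹ᵁ U : P.Opens) : Scheme.{u}) ≅ Proj (𝒜.deg U hU))}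

theorem emb_over (hP : RelProj.IsRelProj 𝒜 p chart) (U : S.Opens) (hU : IsAffineOpen U) :
    RelProj.emb p chart U hU ≫ p = Proj.toSpecZero (𝒜.deg U hU) ≫ Spec.map (𝒜.strZero U hU) ≫ hU.fromSpec := by
  rw [RelProj.emb, Category.assoc, ← hP.chart_over U hU, Iso.inv_hom_id_assoc]

theorem emb_appLE (hP : RelProj.IsRelProj 𝒜 p chart) (U : S.Opens) (hU : IsAffineOpen U)
    {f : 𝒜.presheaf.obj (op U)} {d : ℕ} (hd : 0 < d) (hf : f ∈ 𝒜.deg U hU d)
    (e : Proj.basicOpen (𝒜.deg U hU) f ≤ (RelProj.emb p chart U hU ≫ p) ⁻¹ᵁ U) :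
    (RelProj.emb p chart U hU ≫ p).appLE U _ e = 𝒜.strZero U hU ≫ zeroToSection (𝒜.deg U hU) f := by
  refine appLE_eq_of_toSpecΓ _ (Proj.isAffineOpen_basicOpen _ f hf hd) hU _ ?_ e
  rw [emb_over hP, ← Category.assoc, ι_toSpecZero _ hf hd, Category.assoc, Spec.map_comp_assoc]

variable (hflat : ∃ d₀ : ℕ, ∀ d : ℕ, d₀ ≤ d → ∀ (U : S.Opens) (hU : IsAffineOpen U),
      letI := (𝒜.str.app (op U)).hom.toAlgebra
      Module.Flat Γ(S, U) ↥(Submodule.span Γ(S, U) (𝒜.deg U hU d : Set (𝒜.presheaf.obj (op U)))))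

include hflat

theorem flat (hP : RelProj.IsRelProj 𝒜 p chart) : Flat p := by
  obtain ⟨d₀, hd₀⟩ := hflat
  refine (HasRingHomProperty.iff_exists_appLE (P := @Flat) (RingHom.Flat.stableUnderComposition.stableUnderCompositionWithLocalizationAway RingHom.Flat.holdsForLocalizationAway).left).2
    fun x => ?_
  obtain ⟨U, hU, f, d, hd, hf, hx, -⟩ := RelTildeX.exists_chart_nhd (p := p) (chart := chart) (W := ⊤) (x := x) trivial
  let emb := RelProj.emb p chart U hU
  have hD := Proj.isAffineOpen_basicOpen (𝒜.deg U hU) f hf hd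
  have hle : emb ''ᵁ Proj.basicOpen (𝒜.deg U hU) f ≤ p ⁻¹ᵁ U :=
    (emb.image_le_opensRange _).trans (RelTildeX.opensRange_emb p chart U hU).le
  refine ⟨⟨U, hU⟩, ⟨_, hD.image_of_isOpenImmersion emb⟩, hx, hle, ?_⟩
  have h1 := flat_functions (𝒜.deg U hU) (𝒜.strZero U hU).hom d₀ (fun e he => hd₀ e he U hU) hd hf
  have h2 : (p.appLE U _ hle ≫ (emb.appIso (Proj.basicOpen (𝒜.deg U hU) f)).hom).hom.Flat := by
    rw [Scheme.Hom.appIso_hom', Scheme.Hom.appLE_comp_appLE, emb_appLE hP U hU hd hf]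
    exact h1
  have h3 := RingHom.Flat.respectsIso.1 (p.appLE U _ hle ≫ (emb.appIso (Proj.basicOpen (𝒜.deg U hU) f)).hom).hom
    (emb.appIso (Proj.basicOpen (𝒜.deg U hU) f)).commRingCatIsoToRingEquiv.symm h2
  convert h3 using 1
  ext r
  simp [Iso.commRingCatIsoToRingEquiv]

theorem isFlatOver_twist (hP : RelProj.IsRelProj 𝒜 p chart) (n : ℤ) (L : P.Modules)
    (lam : ∀ (U : S.Opens) (hU : IsAffineOpen U),
      L ⟶ (Scheme.Modules.pushforward (RelProj.emb p chart U hU)).obj (GrTwist.twist (𝒜.deg U hU) n))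
    (hL : RelProj.IsRelTwist 𝒜 p chart n L lam) : FlatMod.IsFlatOver p L := by
  obtain ⟨d₀, hd₀⟩ := hflat
  intro x
  obtain ⟨U, hU, f, d, hd, hf, hx, -⟩ := RelTildeX.exists_chart_nhd (p := p) (chart := chart) (W := ⊤) (x := x) trivial
  let emb := RelProj.emb p chart U hU
  let 𝒟 := 𝒜.deg U hU
  have hD := Proj.isAffineOpen_basicOpen 𝒟 f hf hd
  let W := emb ''ᵁ Proj.basicOpen 𝒟 f
  have hle : W ≤ p ⁻¹ᵁ U := (emb.image_le_opensRange _).trans (RelTildeX.opensRange_emb p chart U hU).le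
  refine (QCoh.flat_appLE_iff p (RelTildeX.isQCoh_twist hL) (hD.image_of_isOpenImmersion emb) hU hle).1 ?_ x hx
  let D' := emb ⁻¹ᵁ W
  have hD' : D' = Proj.basicOpen 𝒟 f := emb.preimage_image_eq _
  let ψ : Γ(S, U) ⟶ Γ(Proj 𝒟, D') := p.appLE U W hle ≫ emb.app W
  letI : Module Γ(S, U) Γ(L, W) := Module.compHom _ (p.appLE U W hle).hom
  letI : Module Γ(S, U) Γ(GrTwist.twist 𝒟 n, D') := Module.compHom _ ψ.hom
  letI : Algebra Γ(S, U) (𝒜.presheaf.obj (op U)) := (𝒜.str.app (op U)).hom.toAlgebra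
  have hψ : ∀ (D'' : (Proj 𝒟).Opens) (e : D'' = Proj.basicOpen 𝒟 f) (e' : D'' ≤ (emb ≫ p) ⁻¹ᵁ U) (r : Γ(S, U))
      (s : Γ(GrMod.tilde 𝒟 𝒟 n, D'')) (y : D''),
      GrMod.val (((emb ≫ p).appLE U D'' e' r) • s) y = (𝒜.str.app (op U)).hom r • GrMod.val s y := by
    rintro _ rfl e' r s y
    rw [emb_appLE hP U hU hd hf]
    exact val_zeroToSection_smul 𝒟 f ((𝒜.strZero U hU).hom r) n s y
  haveI : Module.Flat Γ(S, U) Γ(GrTwist.twist 𝒟 n, D') :=
    flat_sections 𝒟 (fun r => 𝒜.str_mem U hU r) d₀ (fun e he => hd₀ e he U hU) hd hf n D' hD' fun r s y => by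
      have e : ψ = (emb ≫ p).appLE U D' (by rw [Scheme.Hom.comp_preimage]; exact emb.preimage_mono hle) := by
        show p.appLE U W hle ≫ emb.app W = _
        rw [Scheme.Hom.app_eq_appLE, Scheme.Hom.appLE_comp_appLE]
      refine Eq.trans ?_ (hψ D' hD' (by rw [Scheme.Hom.comp_preimage]; exact emb.preimage_mono hle) r s y)
      rw [← e]
      rfl
  let ℓ : Γ(L, W) →ₗ[Γ(S, U)] Γ(GrTwist.twist 𝒟 n, D') :=
    { toFun := fun s => (lam U hU).app W s
      map_add' := map_add _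
      map_smul' := fun r s => Scheme.Modules.Hom.app_smul (lam U hU) (p.appLE U W hle r) s }
  exact Module.Flat.of_linearEquiv (LinearEquiv.ofBijective ℓ (hL.bijective U hU W hle))

end Groth.Agent.RelProjFlat16
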