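import Groth.Agent.GrModX.Sections
import Groth.Prelude.Def_GrTwist
import Mathlib.RingTheory.Flat.EquationalCriterion

/-!
# Flatness of the sections of `O(n)` over the standard opens of `Proj`
-/

set_option autoImplicit false
set_option backward.isDefEq.respectTransparency false
set_option backward.isDefEq.respectTransparency.types false

universe u

open CategoryTheory AlgebraicGeometry TopologicalSpace DirectSum Opposite

noncomputable section

namespace Groth.Agent.RelProjFlat16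

open Groth.Agent GrModX

/-- Flatness from trivialising relations in flat modules. -/
theorem flat_of_lifts {R N : Type u} [CommRing R] [AddCommGroup N] [Module R N]
    (h : ∀ {l : ℕ} (r : Fin l → R) (x : Fin l → N), ∑ i, r i • x i = 0 →
      ∃ (D : Type u) (_ : AddCommGroup D) (_ : Module R D) (φ : D →ₗ[R] N) (z : Fin l → D),
        Module.Flat R D ∧ (∀ i, φ (z i) = x i) ∧ ∑ i, r i • z i = 0) :
    Module.Flat R N := by
  refine Module.Flat.iff_forall_isTrivialRelation.2 fun {l r x} hx => ?_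
  obtain ⟨D, _, _, φ, z, hD, hz, hsum⟩ := h r x hx
  obtain ⟨k, a, y, hy, ha⟩ := Module.Flat.iff_forall_isTrivialRelation.1 hD hsum
  exact ⟨k, a, φ ∘ y, fun i => by simp [← hz i, hy i, map_sum, map_smul], ha⟩

variable {R A : Type u} [CommRing R] [CommRing A] [Algebra R A] (𝒜 : ℕ → AddSubgroup A) [GradedRing 𝒜]
  (hR : ∀ r : R, algebraMap R A r ∈ 𝒜 0)

/-- Fractions with a common denominator add. -/
theorem mk_add_same {y : ProjectiveSpectrum 𝒜} (a b : A) (s : y.asHomogeneousIdeal.toIdeal.primeCompl) :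
    (LocalizedModule.mk a s + LocalizedModule.mk b s : GrMod.LocMod 𝒜 (M := A) y) =
      LocalizedModule.mk (a + b) s := by
  rw [LocalizedModule.mk_add_mk, ← smul_add, LocalizedModule.mk_cancel_common_left]

include hR in
theorem mem_span_deg {e : ℕ} {a : A} (ha : a ∈ Submodule.span R (𝒜 e : Set A)) : a ∈ 𝒜 e := by
  induction ha using Submodule.span_induction with
  | mem x hx => exact hx
  | zero => exact zero_mem _
  | add x y _ _ hx hy => exact add_mem hx hy
  | smul r x _ hx =>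
    rw [Algebra.smul_def]
    simpa using SetLike.mul_mem_graded (hR r) hx

include hR in
/-- The sections of `O(n)` on `D(f)` are flat if the graded pieces of high degree are. -/
theorem flat_sections (d₀ : ℕ) (hflat : ∀ e, d₀ ≤ e → Module.Flat R (Submodule.span R (𝒜 e : Set A)))
    {f : A} {d : ℕ} (hd : 0 < d) (hf : f ∈ 𝒜 d) (n : ℤ) (D : (Proj 𝒜).Opens) (hD : D = Proj.basicOpen 𝒜 f)
    [Module R Γ(GrTwist.twist 𝒜 n, D)]
    (hval : ∀ (r : R) (s : Γ(GrMod.tilde 𝒜 𝒜 n, D)) (y : D),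
      GrMod.val ((show Γ(GrMod.tilde 𝒜 𝒜 n, D) from r • (show Γ(GrTwist.twist 𝒜 n, D) from s))) y =
        algebraMap R A r • GrMod.val s y) :
    Module.Flat R Γ(GrTwist.twist 𝒜 n, D) := by
  subst hD
  refine flat_of_lifts fun {l} r x hx => ?_
  let x' : Fin l → Γ(GrMod.tilde 𝒜 𝒜 n, Proj.basicOpen 𝒜 f) := x
  choose k m hm hk using fun i => exists_frac 𝒜 𝒜 hd hf n (x' i)
  let K := ∑ i, k i + (d₀ + n.natAbs)
  have hkK : ∀ i, k i ≤ K := fun i =>
    (Finset.single_le_sum (fun _ _ => Nat.zero_le _) (Finset.mem_univ i)).trans (Nat.le_add_right _ _)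
  let m' : Fin l → A := fun i => f ^ (K - k i) • m i
  have hm' : ∀ i, Deg 𝒜 ((K : ℤ) * d + n) (m' i) := fun i =>
    ((hm i).smul 𝒜 (pow_mem_deg 𝒜 hf (K - k i))).congr (by push_cast [Nat.cast_sub (hkK i)]; ring)
  let g : A := ∑ i, algebraMap R A (r i) • m' i
  have hg : Deg 𝒜 ((K : ℤ) * d + n) g :=
    Deg.sum _ _ fun i _ => ((hm' i).smul 𝒜 (hR (r i))).congr (by simp)
  have hval' : ∀ (i : Fin l) (y : Proj.basicOpen 𝒜 f),
      GrMod.val (x' i) y = LocalizedModule.mk (m' i) ⟨f ^ K, pow_notMem y.1.isPrime y.2 K⟩ := fun i y => by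
    rw [hk i y, LocalizedModule.mk_eq]
    refine ⟨1, ?_⟩
    simp only [one_smul, Submonoid.smul_def, m', smul_smul, ← pow_add]
    rw [Nat.add_sub_cancel' (hkK i)]
  obtain ⟨N, hN⟩ : ∃ N : ℕ, f ^ N • g = 0 := by
    refine exists_pow_smul_eq_zero_of_mk 𝒜 hd hf hg fun y hy => ⟨⟨f ^ K, pow_notMem y.isPrime hy K⟩, ?_⟩
    let ev : Γ(GrTwist.twist 𝒜 n, Proj.basicOpen 𝒜 f) →+ GrMod.LocMod 𝒜 (M := A) y :=
      AddMonoidHom.mk' (fun s => GrMod.val (show Γ(GrMod.tilde 𝒜 𝒜 n, Proj.basicOpen 𝒜 f) from s) ⟨y, hy⟩)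
        fun _ _ => rfl
    have h0 := congrArg ev hx
    rw [map_zero, map_sum] at h0
    have h1 : ∀ i, ev (r i • x i) = LocalizedModule.mk (algebraMap R A (r i) • m' i)
        (⟨f ^ K, pow_notMem y.isPrime hy K⟩ : y.asHomogeneousIdeal.toIdeal.primeCompl) := fun i =>
      (hval (r i) (x' i) ⟨y, hy⟩).trans (by rw [hval' i ⟨y, hy⟩, LocalizedModule.smul'_mk])
    simp only [h1] at h0
    let den : y.asHomogeneousIdeal.toIdeal.primeCompl := ⟨f ^ K, pow_notMem y.isPrime hy K⟩
    let frac : A →+ GrMod.LocMod 𝒜 (M := A) y :=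
      AddMonoidHom.mk' (fun a => LocalizedModule.mk a den) (fun a b => (mk_add_same 𝒜 a b den).symm)
    exact (map_sum frac _ _).trans h0
  have hnn : ((d₀ : ℕ) : ℤ) ≤ ((K + N : ℕ) : ℤ) * d + n := by
    have h1 : ((K + N : ℕ) : ℤ) ≤ ((K + N : ℕ) : ℤ) * d := le_mul_of_one_le_right (by positivity) (by omega)
    have h2 : (d₀ + n.natAbs : ℕ) ≤ K + N := le_add_right (Nat.le_add_left _ _)
    omega
  let e : ℕ := (((K + N : ℕ) : ℤ) * d + n).toNat
  have he : (e : ℤ) = ((K + N : ℕ) : ℤ) * d + n := Int.toNat_of_nonneg (le_trans (Int.natCast_nonneg _) hnn)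
  have hmem : ∀ i, f ^ N • m' i ∈ 𝒜 e := fun i => by
    obtain ⟨j, hj, hjm⟩ := ((hm' i).smul 𝒜 (pow_mem_deg 𝒜 hf N)).exists_mem
      (by push_cast at he ⊢; linarith [Int.natCast_nonneg e])
    rwa [show e = j by push_cast at hj he; linarith]
  let Φ : Submodule.span R (𝒜 e : Set A) →ₗ[R] Γ(GrTwist.twist 𝒜 n, Proj.basicOpen 𝒜 f) :=
    { toFun := fun a => fracSect 𝒜 𝒜 n (Proj.basicOpen 𝒜 f) (pow_mem_deg 𝒜 hf (K + N))
        (fun y => pow_notMem y.1.isPrime y.2 _) ((deg_of_mem (mem_span_deg 𝒜 hR a.2)).congr (by push_cast at he ⊢; linarith))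
      map_add' := fun a b => GrModX.ext_val 𝒜 𝒜 fun y => by
        exact (mk_add_same 𝒜 _ _ _).symm
      map_smul' := fun c a => GrModX.ext_val 𝒜 𝒜 fun y => by
        refine Eq.trans ?_ (hval c _ y).symm
        rw [val_fracSect, val_fracSect, LocalizedModule.smul'_mk]
        simp only [SetLike.val_smul, RingHom.id_apply, Algebra.smul_def, smul_eq_mul]
        rfl }
  refine ⟨_, inferInstance, inferInstance, Φ, fun i => ⟨f ^ N • m' i, Submodule.subset_span (hmem i)⟩,
    hflat e (by omega), fun i => GrModX.ext_val 𝒜 𝒜 fun y => ?_, Subtype.ext ?_⟩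
  · refine Eq.trans ?_ (hval' i y).symm
    show LocalizedModule.mk (f ^ N • m' i) _ = _
    rw [LocalizedModule.mk_eq]
    refine ⟨1, ?_⟩
    simp only [one_smul, Submonoid.smul_def, smul_eq_mul, pow_add]
    ring
  · simp only [Submodule.coe_sum, SetLike.val_smul, ZeroMemClass.coe_zero]
    rw [← hN, Finset.smul_sum]
    refine Finset.sum_congr rfl fun i _ => ?_
    simp only [smul_eq_mul]
    rw [Algebra.smul_def]
    ring

end Groth.Agent.RelProjFlat16
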